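import Groth.Agent.SecNhdLib.ProperNhd

/-! A separated scheme over a base is proper near a point when a proper component fills it. -/

set_option autoImplicit false
set_option backward.isDefEq.respectTransparency false
universe u

open CategoryTheory CategoryTheory.Limits AlgebraicGeometry TopologicalSpace

namespace NeronProperLib

/-- A morphism whose source is covered by a closed subscheme proper over the target is proper. -/
theorem isProper_of_univ {P T : Scheme.{u}} (b : P ⟶ T) [IsSeparated b] [LocallyOfFiniteType b]
    (Z : Closeds P) (hZ : (Z : Set P) = Set.univ)
    (h : IsProper ((Scheme.IdealSheafData.vanishingIdeal Z).subschemeι ≫ b)) : IsProper b := by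
  haveI := h
  haveI : Surjective (Scheme.IdealSheafData.vanishingIdeal Z).subschemeι := ⟨fun p => by
    have hr := DvrProperLib.range_subscheme_vanishingIdeal Z
    rw [hZ] at hr
    exact hr.ge (Set.mem_univ p)⟩
  haveI : UniversallyClosed b :=
    UniversallyClosed.of_comp_surjective (f := (Scheme.IdealSheafData.vanishingIdeal Z).subschemeι) (g := b)
  exact {}

/-- A component of a closed fibre is closed. -/
theorem isClosed_component {X : Type*} [TopologicalSpace X] {F : Set X} (hF : IsClosed F) {x : X} (hx : x ∈ F) :
    IsClosed (connectedComponentIn F x) := by
  rw [connectedComponentIn_eq_image hx]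
  exact hF.isClosedEmbedding_subtypeVal.isClosedMap _ isClosed_connectedComponent

/-- Properness everywhere follows from properness over the whole base. -/
theorem isProper_of_top {X Y : Scheme.{u}} (f : X ⟶ Y) (U : Y.Opens) (hU : U = ⊤) (h : IsProper (f ∣_ U)) :
    IsProper f :=
  IsZariskiLocalAtTarget.of_iSup_eq_top (P := @IsProper) (fun _ : PUnit.{u + 1} => U) (by rw [iSup_const, hU])
    fun _ => h

end NeronProperLib
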