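import Mathlib.CategoryTheory.Monoidal.Cartesian.Grp

/-! A group law transported through a mapping property. -/

set_option autoImplicit false
universe v₁ v₂ u₁ u₂

open CategoryTheory MonoidalCategory CartesianMonoidalCategory MonObj

namespace NeronProperLib

variable {C : Type u₁} [Category.{v₁} C] [CartesianMonoidalCategory C] {D : Type u₂} [Category.{v₂} D]
  [CartesianMonoidalCategory D]

/-- If maps into `N` from a class of objects closed under products biject with maps into a group object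
through a functor, then `N` is a group object. -/
theorem nonempty_grpObj (F : C ⥤ D) (P : C → Prop) (hu : P (𝟙_ C)) (hT : ∀ X Y, P X → P Y → P (X ⊗ Y))
    (N : C) (hN : P N) (A : D) [GrpObj A] (e : F.obj N ⟶ A)
    (h : ∀ Y, P Y → Function.Bijective fun g : Y ⟶ N => F.map g ≫ e) : Nonempty (GrpObj N) := by
  have key1 : ∀ {X Y : C} (x : X ⟶ Y) (y : Y ⟶ N), F.map (x ≫ y) ≫ e = F.map x ≫ F.map y ≫ e := fun x y => by
    rw [Functor.map_comp, Category.assoc]
  obtain ⟨m, hm⟩ := (h _ (hT _ _ hN hN)).2 ((F.map (fst N N) ≫ e) * (F.map (snd N N) ≫ e))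
  obtain ⟨o, ho⟩ := (h _ hu).2 (1 : F.obj (𝟙_ C) ⟶ A)
  obtain ⟨i, hi⟩ := (h _ hN).2 (F.map (𝟙 N) ≫ e)⁻¹
  dsimp at hm ho hi
  have key2 : ∀ {X : C} (a b : X ⟶ N), F.map (lift a b ≫ m) ≫ e = (F.map a ≫ e) * (F.map b ≫ e) := fun a b => by
    rw [key1, hm, MonObj.comp_mul, ← key1, ← key1, lift_fst, lift_snd]
  have key3 : ∀ {X : C} (a : X ⟶ 𝟙_ C), F.map (a ≫ o) ≫ e = 1 := fun a => by
    rw [key1, ho, MonObj.comp_one]
  have key4 : ∀ {X : C} (a : X ⟶ N), F.map (a ≫ i) ≫ e = (F.map a ≫ e)⁻¹ := fun a => by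
    rw [key1, hi, GrpObj.comp_inv, ← key1, Category.comp_id]
  have hl : ∀ {X : C}, o ▷ X = lift (fst (𝟙_ C) X ≫ o) (snd (𝟙_ C) X) := fun {X} =>
    CartesianMonoidalCategory.hom_ext _ _ (by simp) (by simp)
  have hr : ∀ {X : C}, X ◁ o = lift (fst X (𝟙_ C)) (snd X (𝟙_ C) ≫ o) := fun {X} =>
    CartesianMonoidalCategory.hom_ext _ _ (by simp) (by simp)
  refine ⟨{ one := o, mul := m, inv := i, one_mul := ?_, mul_one := ?_, mul_assoc := ?_, left_inv := ?_, right_inv := ?_ }⟩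
  · refine (h _ (hT _ _ hu hN)).1 ?_
    dsimp only
    rw [hl, key2, key3, _root_.one_mul, leftUnitor_hom]
  · refine (h _ (hT _ _ hN hu)).1 ?_
    dsimp only
    rw [hr, key2, key3, _root_.mul_one, rightUnitor_hom]
  · refine (h _ (hT _ _ (hT _ _ hN hN) hN)).1 ?_
    dsimp only
    have e1 : m ▷ N = lift (fst (N ⊗ N) N ≫ m) (snd (N ⊗ N) N) :=
      CartesianMonoidalCategory.hom_ext _ _ (by simp) (by simp)
    have e2 : (α_ N N N).hom ≫ N ◁ m ≫ m = lift (fst (N ⊗ N) N ≫ fst N N)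
        (lift (fst (N ⊗ N) N ≫ snd N N) (snd (N ⊗ N) N) ≫ m) ≫ m := by
      rw [← Category.assoc]
      congr 1
      refine CartesianMonoidalCategory.hom_ext _ _ (by simp) ?_
      rw [Category.assoc, whiskerLeft_snd, ← Category.assoc, lift_snd]
      congr 1
      exact CartesianMonoidalCategory.hom_ext _ _ (by simp) (by simp)
    rw [e1, e2, key2, key2, key2, key1 (fst (N ⊗ N) N) m, hm, MonObj.comp_mul, ← key1, ← key1,
      _root_.mul_assoc]
  · refine (h _ hN).1 ?_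
    dsimp only
    rw [key2, key3, show F.map i ≫ e = (F.map (𝟙 N) ≫ e)⁻¹ from hi, inv_mul_cancel]
  · refine (h _ hN).1 ?_
    dsimp only
    rw [key2, key3, show F.map i ≫ e = (F.map (𝟙 N) ≫ e)⁻¹ from hi, mul_inv_cancel]

end NeronProperLib
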